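import Groth.Agent.Lib.Lead.LCZ.LES
import Groth.Agent.Lib.Lead.SC.CohPsh3

/-! # Flasque sheaves have no higher cohomology with supports. -/

universe u
open CategoryTheory Limits Opposite Abelian TopologicalSpace Topology

namespace Groth.Agent.LD.LCZ
open Groth.Agent.LD.SC

variable {X : TopCat.{u}}

theorem subsingleton_HZ_of_isFlasque (F : CohTop.Ab X) [TopCat.Sheaf.IsFlasque F]
    {W V : Opens X} (h : W ≤ V) (k : ℕ) : Subsingleton (LocCohZ.HZ F (k + 1) h) := by
  suffices hz : ∀ x : LocCohZ.HZ F (k + 1) h, x = 0 from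
    ⟨fun a b => (hz a).trans (hz b).symm⟩
  intro x
  haveI := subsingleton_ext_of_isFlasque k F V
  have hx : LocCohZ.toHU F (k + 1) h x = 0 :=
    Subsingleton.elim (α := Ext (ZU (Opens.grothendieckTopology X) V) F (k + 1)) _ _
  obtain ⟨y, rfl⟩ := exists_delta_eq h F k x hx
  cases k with
  | zero =>
    -- lift `y` to `V`
    let s := H0Equiv W F y
    haveI : Epi (F.obj.map (homOfLE h).op) := inferInstance
    obtain ⟨s', hs'⟩ := (AddCommGrpCat.epi_iff_surjective _).1 this s
    let z : CohTop.HU F 0 V := (H0Equiv V F).symm s'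
    have hz : CohTop.res F 0 h z = y := by
      apply (H0Equiv W F).injective
      change H0Equiv W F (Hres (homOfLE h) z) = _
      rw [H0Equiv_Hres]
      change F.obj.map (homOfLE h).op (H0Equiv V F ((H0Equiv V F).symm s')) = s
      rw [AddEquiv.apply_symm_apply, hs']
    rw [← hz, delta_res]
  | succ k =>
    haveI := subsingleton_ext_of_isFlasque k F W
    have hy : y = 0 :=
      Subsingleton.elim (α := Ext (ZU (Opens.grothendieckTopology X) W) F (k + 1)) _ _
    rw [hy, map_zero]

end Groth.Agent.LD.LCZ
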