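import Groth.Agent.Lib.Lead.LCZ.Sect
import Groth.Agent.Lib.Lead.SC.ExtRes
import Groth.Agent.Lib.Lead.SC.Cyc

/-! # Local cohomology sheaves versus cohomology with supports. -/

universe u
open CategoryTheory Limits Opposite Abelian TopologicalSpace Topology

namespace Groth.Agent.LD.LCZ
open Groth.Agent.LD.SC

variable {X : TopCat.{u}}

section zq

variable {W V : Opens X} (h : W ≤ V)

/-- evaluation `(ℤ_V/ℤ_W ⟶ G) → G(V)`. -/
noncomputable def zqEval (G : CohTop.Ab X) (φ : LocCohZ.zq h ⟶ G) : G.obj.obj (op V) :=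
  homEquiv V G (cokernel.π _ ≫ φ)

lemma zqEval_injective (G : CohTop.Ab X) : Function.Injective (zqEval h G) := by
  intro φ ψ hφψ
  have := (homEquiv V G).injective hφψ
  exact (cancel_epi _).1 this

lemma zqEval_zero (G : CohTop.Ab X) : zqEval h G 0 = 0 := by
  unfold zqEval
  rw [comp_zero]
  exact (homAddEquiv V G).map_zero

lemma zqEval_comp {G G' : CohTop.Ab X} (φ : LocCohZ.zq h ⟶ G) (g : G ⟶ G') :
    zqEval h G' (φ ≫ g) = g.hom.app (op V) (zqEval h G φ) := by
  unfold zqEval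
  rw [← Category.assoc, homEquiv_comp]

lemma zqEval_res (G : CohTop.Ab X) (φ : LocCohZ.zq h ⟶ G) :
    G.obj.map (homOfLE h).op (zqEval h G φ) = 0 := by
  unfold zqEval
  rw [← homEquiv_map]
  have : ZUmap (Opens.grothendieckTopology X) (homOfLE h) ≫ cokernel.π _ ≫ φ = 0 := by
    rw [← Category.assoc]
    erw [cokernel.condition]
    rw [zero_comp]
  rw [this]
  exact (homAddEquiv W G).map_zero

lemma exists_zqEval_eq (G : CohTop.Ab X) (s : G.obj.obj (op V))
    (hs : G.obj.map (homOfLE h).op s = 0) : ∃ φ : LocCohZ.zq h ⟶ G, zqEval h G φ = s := by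
  let ψ : ZU (Opens.grothendieckTopology X) V ⟶ G := (homEquiv V G).symm s
  have hψ : ZUmap (Opens.grothendieckTopology X) (homOfLE h) ≫ ψ = 0 := by
    apply (homEquiv W G).injective
    rw [homEquiv_map, Equiv.apply_symm_apply, hs]
    exact ((homAddEquiv W G).map_zero).symm
  refine ⟨cokernel.desc _ ψ hψ, ?_⟩
  unfold zqEval
  rw [cokernel.π_desc]
  exact Equiv.apply_symm_apply _ _

end zq

/-- a short complex of sheaves which is exact on sections is exact. -/
lemma exact_of_sections (S : ShortComplex (CohTop.Ab X))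
    (h : ∀ (V : Opens X) (y : S.X₂.obj.obj (op V)), S.g.hom.app (op V) y = 0 →
      ∃ x : S.X₁.obj.obj (op V), S.f.hom.app (op V) x = y) : S.Exact := by
  rw [S.exact_iff_epi_kernel_lift]
  apply (Sheaf.isLocallySurjective_iff_epi' (φ := kernel.lift S.g S.f S.zero)).mp
  apply (TopCat.Presheaf.isLocallySurjective_iff _).mpr
  intro V z x hx
  refine ⟨V, le_rfl, ?_, hx⟩
  let y := (kernel.ι S.g).hom.app (op V) z
  have hy : S.g.hom.app (op V) y = 0 := by
    have := congrArg (fun ψ => ψ.hom.app (op V) z) (kernel.condition S.g)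
    exact this
  obtain ⟨x₁, hx₁⟩ := h V y hy
  refine ⟨x₁, ?_⟩
  apply CH.app_injective_of_mono (kernel.ι S.g) V
  have h2 := congrArg (fun ψ => ψ.hom.app (op V) x₁) (kernel.lift_ι S.g S.f S.zero)
  have h3 : (kernel.ι S.g).hom.app (op V) ((kernel.lift S.g S.f S.zero).hom.app (op V) x₁) =
      S.f.hom.app (op V) x₁ := h2
  change (kernel.ι S.g).hom.app (op V) ((kernel.lift S.g S.f S.zero).hom.app (op V) x₁) =
    (kernel.ι S.g).hom.app (op V) (((kernel S.g).obj.map (𝟙 _)) z)
  rw [h3, hx₁]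
  simp [y]

set_option quotPrecheck false in
/-- the complex `Γ_Z(I^•)`. -/
local notation "KZ(" U "," R ")" =>
  ((LocCohZ.sectSuppF U).mapHomologicalComplex (ComplexShape.up ℕ)).obj
    (InjectiveResolution.cocomplex R)

section K

variable (U : Opens X) {F : CohTop.Ab X} (R : InjectiveResolution F)


/-- sectionwise condition on cocycles of `Γ_Z(I^•)` over `V` in degree `i`. -/
def SecEx (V : Opens X) : ℕ → Prop
  | 0 => ∀ t : KZ(U, R).X 0 |>.obj.obj (op V), (KZ(U, R).d 0 1).hom.app (op V) t = 0 → t = 0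
  | (k + 1) => ∀ t : KZ(U, R).X (k + 1) |>.obj.obj (op V),
      (KZ(U, R).d (k + 1) (k + 2)).hom.app (op V) t = 0 →
        ∃ t' : KZ(U, R).X k |>.obj.obj (op V), (KZ(U, R).d k (k + 1)).hom.app (op V) t' = t

lemma ssι_d (n : ℕ) (V : Opens X) (t : KZ(U, R).X n |>.obj.obj (op V)) :
    (ssι U (R.cocomplex.X (n + 1))).hom.app (op V) ((KZ(U, R).d n (n + 1)).hom.app (op V) t) =
      (R.cocomplex.d n (n + 1)).hom.app (op V) ((ssι U (R.cocomplex.X n)).hom.app (op V) t) :=
  sectSuppF_map_app U (R.cocomplex.d n (n + 1)) V t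

variable (V : Opens X)

/-- from a cocycle `t` of `Γ_Z(I^n)(V)` to a cocycle `ℤ_V/ℤ_{V⊓U} ⟶ I^n`. -/
lemma exists_zq_of_cocycle (n : ℕ) (t : KZ(U, R).X n |>.obj.obj (op V))
    (ht : (KZ(U, R).d n (n + 1)).hom.app (op V) t = 0) :
    ∃ φ : LocCohZ.zq (inf_le_left : V ⊓ U ≤ V) ⟶ R.cocomplex.X n,
      zqEval _ _ φ = (ssι U (R.cocomplex.X n)).hom.app (op V) t ∧
      φ ≫ R.cocomplex.d n (n + 1) = 0 := by
  obtain ⟨φ, hφ⟩ := exists_zqEval_eq (inf_le_left : V ⊓ U ≤ V) (R.cocomplex.X n)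
    ((ssι U (R.cocomplex.X n)).hom.app (op V) t) (res_ssι_eq_zero U _ V t)
  refine ⟨φ, hφ, ?_⟩
  apply zqEval_injective
  rw [zqEval_comp, hφ, ← ssι_d, ht, zqEval_zero]
  exact map_zero _

/-- from a map `ℤ_V/ℤ_{V⊓U} ⟶ I^n` to a section of `Γ_Z(I^n)(V)`. -/
lemma exists_sect_of_zq (n : ℕ) (φ : LocCohZ.zq (inf_le_left : V ⊓ U ≤ V) ⟶ R.cocomplex.X n) :
    ∃ t : KZ(U, R).X n |>.obj.obj (op V),
      (ssι U (R.cocomplex.X n)).hom.app (op V) t = zqEval _ _ φ :=
  exists_ssι_eq U _ V _ (zqEval_res _ _ φ)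

/-- (A): vanishing of `H^i_{Z∩V}(V, F)` gives sectionwise exactness. -/
theorem secEx_of_subsingleton (i : ℕ)
    (h : Subsingleton (LocCohZ.HZ F i (inf_le_left : V ⊓ U ≤ V))) : SecEx U R V i := by
  cases i with
  | zero =>
    intro t ht
    obtain ⟨φ, hφ, hφd⟩ := exists_zq_of_cocycle U R V 0 t ht
    -- φ factors through F
    let φ₀ : LocCohZ.zq (inf_le_left : V ⊓ U ≤ V) ⟶ F :=
      R.isLimitKernelFork.lift (KernelFork.ofι φ hφd)
    have hφ₀ : φ₀ ≫ R.ι.f 0 = φ := R.isLimitKernelFork.fac (KernelFork.ofι φ hφd) WalkingParallelPair.zero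
    have h0 : φ₀ = 0 := by
      have : Ext.mk₀ φ₀ = (0 : Ext (LocCohZ.zq (inf_le_left : V ⊓ U ≤ V)) F 0) :=
        Subsingleton.elim (α := LocCohZ.HZ F 0 (inf_le_left : V ⊓ U ≤ V)) _ _
      have h2 := congrArg Ext.addEquiv₀ this
      rw [map_zero] at h2
      rw [← h2]
      exact (Ext.addEquiv₀.apply_symm_apply φ₀).symm
    have hφ0 : φ = 0 := by rw [← hφ₀, h0, zero_comp]
    apply ssι_app_injective U _ V
    rw [← hφ, hφ0, zqEval_zero]
    exact (map_zero ((ssι U (R.cocomplex.X 0)).hom.app (op V)).hom).symm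
  | succ k =>
    intro t ht
    obtain ⟨φ, hφ, hφd⟩ := exists_zq_of_cocycle U R V (k + 1) t ht
    let c : (postD R (LocCohZ.zq (inf_le_left : V ⊓ U ≤ V)) (k + 1)).ker := ⟨φ, hφd⟩
    have hc : toExt R _ (k + 1) c = 0 :=
      Subsingleton.elim (α := LocCohZ.HZ F (k + 1) (inf_le_left : V ⊓ U ≤ V)) _ _
    obtain ⟨g, hg⟩ := (toExt_eq_zero_iff R _ k c).1 hc
    obtain ⟨t', ht'⟩ := exists_sect_of_zq U R V k g
    refine ⟨t', ?_⟩
    apply ssι_app_injective U _ V
    rw [ssι_d, ht', ← zqEval_comp, ← hφ]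
    congr 1

/-- (B): sectionwise exactness gives vanishing of `H^i_{Z∩V}(V, F)`. -/
theorem subsingleton_of_secEx (i : ℕ) (h : SecEx U R V i) :
    Subsingleton (LocCohZ.HZ F i (inf_le_left : V ⊓ U ≤ V)) := by
  suffices hz : ∀ α : Ext (LocCohZ.zq (inf_le_left : V ⊓ U ≤ V)) F i, α = 0 from
    ⟨fun a b => (hz a).trans (hz b).symm⟩
  cases i with
  | zero =>
    intro α
    obtain ⟨φ₀, rfl⟩ := (Ext.mk₀_bijective _ _).2 α
    let φ := φ₀ ≫ R.ι.f 0
    have hφd : φ ≫ R.cocomplex.d 0 1 = 0 := by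
      change (φ₀ ≫ R.ι.f 0) ≫ R.cocomplex.d 0 1 = 0
      rw [Category.assoc]
      erw [R.ι_f_zero_comp_complex_d]
      exact comp_zero
    obtain ⟨t, ht⟩ := exists_sect_of_zq U R V 0 φ
    have htd : (KZ(U, R).d 0 1).hom.app (op V) t = 0 := by
      apply ssι_app_injective U _ V
      rw [ssι_d, ht, ← zqEval_comp, hφd, zqEval_zero]
      exact (map_zero _).symm
    have ht0 := h t htd
    have hφ0 : φ = 0 := by
      apply zqEval_injective
      rw [← ht, ht0, zqEval_zero]
      exact map_zero _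
    haveI : Mono (R.ι.f 0) := inferInstance
    have : φ₀ = 0 := (cancel_mono (R.ι.f 0)).1 (hφ0.trans zero_comp.symm)
    rw [this, Ext.mk₀_zero]
  | succ k =>
    intro α
    obtain ⟨c, rfl⟩ := toExt_surjective R _ (k + 1) α
    obtain ⟨t, ht⟩ := exists_sect_of_zq U R V (k + 1) c.1
    have htd : (KZ(U, R).d (k + 1) (k + 2)).hom.app (op V) t = 0 := by
      apply ssι_app_injective U _ V
      rw [ssι_d, ht, ← zqEval_comp]
      have := c.2
      rw [AddMonoidHom.mem_ker] at this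
      change zqEval _ _ (postD R _ (k + 1) c.1) = _
      rw [this, zqEval_zero]
      exact (map_zero _).symm
    obtain ⟨t', ht'⟩ := h t htd
    obtain ⟨g, hg⟩ := exists_zqEval_eq (inf_le_left : V ⊓ U ≤ V) (R.cocomplex.X k)
      ((ssι U (R.cocomplex.X k)).hom.app (op V) t') (res_ssι_eq_zero U _ V t')
    rw [toExt_eq_zero_iff]
    refine ⟨g, ?_⟩
    apply zqEval_injective
    change zqEval _ _ (g ≫ R.cocomplex.d k (k + 1)) = _
    rw [zqEval_comp, hg, ← ssι_d, ht', ht]

/-- (C): sectionwise exactness gives exactness of the complex of sheaves. -/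
theorem exactAt_of_secEx (i : ℕ) (h : ∀ V, SecEx U R V i) : KZ(U, R).ExactAt i := by
  cases i with
  | zero =>
    rw [HomologicalComplex.exactAt_iff' _ 0 0 1 (by simp) (by simp)]
    apply exact_of_sections
    intro V y hy
    refine ⟨0, ?_⟩
    rw [h V y hy]
    exact map_zero _
  | succ k =>
    rw [HomologicalComplex.exactAt_iff' _ k (k + 1) (k + 2) (by simp) (by simp)]
    apply exact_of_sections
    intro V y hy
    exact h V y hy

end K

/-- sections of a kernel. -/
lemma exists_kernel_ι_eq {A B : CohTop.Ab X} (g : A ⟶ B) (V : Opens X) (y : A.obj.obj (op V))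
    (hy : g.hom.app (op V) y = 0) : ∃ z : (kernel g).obj.obj (op V), (kernel.ι g).hom.app (op V) z = y := by
  let S : ShortComplex (CohTop.Ab X) := ShortComplex.mk (kernel.ι g) g (kernel.condition _)
  have hS : S.Exact := S.exact_of_f_is_kernel (kernelIsKernel _)
  haveI : Mono S.f := inferInstanceAs (Mono (kernel.ι g))
  have h := hS.map_of_mono_of_preservesKernel
    (sheafToPresheaf (Opens.grothendieckTopology X) AddCommGrpCat.{u} ⋙
      (evaluation _ _).obj (op V)) inferInstance inferInstance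
  rw [ShortComplex.ab_exact_iff] at h
  exact h y hy

lemma isFlasque_kernel_of_mono {A B : CohTop.Ab X} (g : A ⟶ B) [Mono g] :
    TopCat.Sheaf.IsFlasque (kernel g : CohTop.Ab X) where
  epi {V₁ V₂} i := by
    rw [AddCommGrpCat.epi_iff_surjective]
    intro t
    refine ⟨0, ?_⟩
    rw [map_zero]
    apply CH.app_injective_of_mono (kernel.ι g) V₂.unop
    apply CH.app_injective_of_mono g V₂.unop
    rw [map_zero, map_zero]
    have := congrArg (fun ψ => ψ.hom.app (op V₂.unop) t) (kernel.condition g)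
    exact this.symm

section D

variable (U : Opens X) {F : CohTop.Ab X} (R : InjectiveResolution F)

instance isFlasque_KZ (n : ℕ) : TopCat.Sheaf.IsFlasque (KZ(U, R).X n : CohTop.Ab X) := by
  haveI : TopCat.Sheaf.IsFlasque (R.cocomplex.X n) := isFlasque_of_injective _
  exact isFlasque_sectSupp U (R.cocomplex.X n)

lemma mono_d_zero (h : KZ(U, R).ExactAt 0) : Mono (KZ(U, R).d 0 1) := by
  rw [HomologicalComplex.exactAt_iff' _ 0 0 1 (by simp) (by simp)] at h
  exact (ShortComplex.exact_iff_mono _ (KZ(U, R).shape 0 0 (by simp))).1 h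

lemma isFlasque_Zc (n : ℕ) (hex : ∀ i, i < n → KZ(U, R).ExactAt i) :
    ∀ j, j < n → TopCat.Sheaf.IsFlasque (Zc KZ(U, R) j : CohTop.Ab X) := by
  intro j
  induction j with
  | zero =>
    intro h0
    haveI := mono_d_zero U R (hex 0 h0)
    exact isFlasque_kernel_of_mono _
  | succ j ih =>
    intro hj
    have hS := Sc_shortExact KZ(U, R) j (hex (j + 1) hj)
    haveI : TopCat.Sheaf.IsFlasque ((Sc KZ(U, R) j).X₁ : CohTop.Ab X) := ih (by omega)
    haveI : TopCat.Sheaf.IsFlasque ((Sc KZ(U, R) j).X₂ : CohTop.Ab X) := isFlasque_KZ U R j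
    exact TopCat.Sheaf.IsFlasque.of_shortExact_of_isFlasque₁₂ hS

/-- (D): exactness of the complex of sheaves in degrees `< n` gives sectionwise exactness. -/
theorem secEx_of_exactAt (n : ℕ) (hex : ∀ i, i < n → KZ(U, R).ExactAt i) (i : ℕ) (hi : i < n)
    (V : Opens X) : SecEx U R V i := by
  cases i with
  | zero =>
    intro t ht
    haveI := mono_d_zero U R (hex 0 hi)
    apply CH.app_injective_of_mono (KZ(U, R).d 0 1) V
    rw [ht]
    exact (map_zero _).symm
  | succ k =>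
    intro t ht
    have hS := Sc_shortExact KZ(U, R) k (hex (k + 1) hi)
    haveI : TopCat.Sheaf.IsFlasque ((Sc KZ(U, R) k).X₁ : CohTop.Ab X) :=
      isFlasque_Zc U R n hex k (by omega)
    have hepi := TopCat.Sheaf.IsFlasque.epi_of_shortExact (U := V) hS
    obtain ⟨z, hz⟩ := exists_kernel_ι_eq (KZ(U, R).d (k + 1) (k + 2)) V t ht
    obtain ⟨t', ht'⟩ := (AddCommGrpCat.epi_iff_surjective _).1 hepi z
    refine ⟨t', ?_⟩
    rw [← hz]
    have h1 := congrArg (fun ψ => ψ.hom.app (op V) t') (πc_ιc KZ(U, R) k)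
    have h2 : (ιc KZ(U, R) (k + 1)).hom.app (op V) ((πc KZ(U, R) k).hom.app (op V) t') =
        (KZ(U, R).d k (k + 1)).hom.app (op V) t' := h1
    rw [← h2]
    congr 1

end D

/-- **local cohomology sheaves vs. cohomology with supports** (Hartshorne, Local Cohomology 1.?):
`ℋ^i_Z(F) = 0` for `i < n` iff `H^i_{Z ∩ V}(V, F) = 0` for all opens `V` and `i < n`. -/
theorem isZero_HZsh_iff (F : CohTop.Ab X) (U : Opens X) (n : ℕ) :
    (∀ i : ℕ, i < n → IsZero ((LocCohZ.HZsh U i).obj F)) ↔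
      ∀ (V : Opens X) (i : ℕ), i < n →
        Subsingleton (LocCohZ.HZ F i (inf_le_left : V ⊓ U ≤ V)) := by
  let R := InjectiveResolution.of F
  have key : ∀ i, IsZero ((LocCohZ.HZsh U i).obj F) ↔ KZ(U, R).ExactAt i := by
    intro i
    rw [HomologicalComplex.exactAt_iff_isZero_homology]
    exact Iso.isZero_iff (R.isoRightDerivedObj (LocCohZ.sectSuppF U) i)
  constructor
  · intro h V i hi
    apply subsingleton_of_secEx U R V i
    exact secEx_of_exactAt U R n (fun j hj => (key j).1 (h j hj)) i hi V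
  · intro h i hi
    rw [key]
    apply exactAt_of_secEx
    intro V
    exact secEx_of_subsingleton U R V i (h V i hi)

/-- single-degree version: vanishing of all `H^i_{Z ∩ V}(V, F)` kills `ℋ^i_Z(F)`. -/
theorem isZero_HZsh_of_subsingleton (F : CohTop.Ab X) (U : Opens X) (i : ℕ)
    (h : ∀ V : Opens X, Subsingleton (LocCohZ.HZ F i (inf_le_left : V ⊓ U ≤ V))) :
    IsZero ((LocCohZ.HZsh U i).obj F) := by
  let R := InjectiveResolution.of F
  refine (Iso.isZero_iff (R.isoRightDerivedObj (LocCohZ.sectSuppF U) i)).2 ?_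
  have hex : KZ(U, R).ExactAt i := by
    apply exactAt_of_secEx
    intro V
    exact secEx_of_subsingleton U R V i (h V)
  exact (HomologicalComplex.exactAt_iff_isZero_homology _ _).1 hex

end Groth.Agent.LD.LCZ
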