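import Groth.Agent.Lib.Lead.SC.FunSES
import Groth.Agent.Lib.Lead.SC.ExtZero
import Groth.Agent.Lib.Lead.SC.MapResNat
import Groth.Agent.Lib.Lead.LCZ.Main
import Groth.Prelude.Def_LocCohZ

/-! # The sequence `0 → Γ_Z → id → j_* j⁻¹` and the local cohomology sheaves. -/

universe u
open CategoryTheory Limits Opposite TopologicalSpace Topology

namespace Groth.Agent.LD.LCZ
open Groth.Agent.LD.SC

variable {X : TopCat.{u}} (U : Opens X)

lemma isCont_map {X Y : TopCat.{u}} (f : X ⟶ Y) : (Opens.map f).IsContinuous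
    (Opens.grothendieckTopology Y) (Opens.grothendieckTopology X) := inferInstance

/-- the concrete adjunction restriction ⊣ pushforward. -/
noncomputable def adjB : CohTop.restrFunctor U ⊣ CohTop.push (CohCx.incl U) :=
  @Adjunction.sheafPushforwardContinuous _ _ _ _ AddCommGrpCat.{u} _ _ _
    ((isOpenEmbedding_incl U).isOpenMap.adjunction) _ _
    (isOpenEmbedding_incl U).functor_isContinuous (isCont_map (CohCx.incl U))

lemma adjB_unit_app (F : CohTop.Ab X) (V : Opens X) :
    ((adjB U).unit.app F).hom.app (op V) = F.obj.map (homOfLE (by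
      rintro _ ⟨y, hy, rfl⟩; exact hy :
        (isOpenEmbedding_incl U).isOpenMap.functor.obj ((Opens.map (CohCx.incl U)).obj V) ≤ V)).op := by
  simp [adjB]
  rfl

/-- Mathlib's pullback along the inclusion of an open is the restriction. -/
noncomputable def pullIsoRestr : CohTop.pull (CohCx.incl U) ≅ CohTop.restrFunctor U :=
  (adjU U).leftAdjointUniq (adjB U)

lemma unit_comp : (adjU U).unit ≫
    Functor.whiskerRight (pullIsoRestr U).hom (CohTop.push (CohCx.incl U)) = (adjB U).unit :=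
  Adjunction.unit_leftAdjointUniq_hom _ _

/-- `Γ_Z ⟶ id`. -/
noncomputable def αZ : LocCohZ.sectSuppF U ⟶ 𝟭 (CohTop.Ab X) where
  app F := ssι U F
  naturality _ _ φ := sectSuppF_map_ssι U φ

/-- `j_* j⁻¹` in concrete form. -/
noncomputable abbrev G3 : CohTop.Ab X ⥤ CohTop.Ab X :=
  CohTop.restrFunctor U ⋙ CohTop.push (CohCx.incl U)

/-- `id ⟶ j_* j⁻¹`. -/
noncomputable def βZ : 𝟭 (CohTop.Ab X) ⟶ G3 U := (adjB U).unit

lemma βZ_app (F : CohTop.Ab X) :
    (βZ U).app F = (adjU U).unit.app F ≫ (CohTop.push (CohCx.incl U)).map ((pullIsoRestr U).hom.app F) := by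
  have h := congrArg (fun t => t.app F) (unit_comp U)
  exact h.symm

lemma wZ : αZ U ≫ βZ U = 0 := by
  ext F : 2
  change ssι U F ≫ (βZ U).app F = 0
  rw [βZ_app, kernel.condition_assoc, zero_comp]


lemma epi_βZ_app (I : CohTop.Ab X) [TopCat.Sheaf.IsFlasque I] : Epi ((βZ U).app I) := by
  apply (Sheaf.isLocallySurjective_iff_epi' (φ := (βZ U).app I)).mp
  apply Presheaf.isLocallySurjective_of_surjective
  intro V
  obtain ⟨V⟩ := V
  change Function.Surjective (((adjB U).unit.app I).hom.app (op V))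
  rw [adjB_unit_app]
  exact (AddCommGrpCat.epi_iff_surjective _).1 (TopCat.Presheaf.IsFlasque.epi _)

lemma shortExact_Z (I : CohTop.Ab X) (hI : Injective I) :
    (ShortComplex.mk ((αZ U).app I) ((βZ U).app I)
      (FunSES.app_comp_app (αZ U) (βZ U) (wZ U) I)).ShortExact := by
  haveI : TopCat.Sheaf.IsFlasque I := isFlasque_of_injective I
  haveI : Mono ((αZ U).app I) := inferInstanceAs (Mono (kernel.ι ((adjU U).unit.app I)))
  haveI : Epi ((βZ U).app I) := epi_βZ_app U I
  have h1 : (ShortComplex.mk (ssι U I) ((adjU U).unit.app I) (kernel.condition _)).Exact :=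
    ShortComplex.exact_of_f_is_kernel _ (kernelIsKernel _)
  let φ : ShortComplex.mk (ssι U I) ((adjU U).unit.app I) (kernel.condition _) ⟶
      ShortComplex.mk ((αZ U).app I) ((βZ U).app I)
        (FunSES.app_comp_app (αZ U) (βZ U) (wZ U) I) :=
    { τ₁ := 𝟙 _
      τ₂ := 𝟙 _
      τ₃ := (CohTop.push (CohCx.incl U)).map ((pullIsoRestr U).hom.app I)
      comm₁₂ := rfl
      comm₂₃ := by
        change 𝟙 _ ≫ (βZ U).app I = (adjU U).unit.app I ≫ _
        rw [βZ_app, Category.id_comp] }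
  haveI : Epi φ.τ₁ := inferInstanceAs (Epi (𝟙 _))
  haveI : IsIso φ.τ₂ := inferInstanceAs (IsIso (𝟙 _))
  haveI : Mono φ.τ₃ := inferInstanceAs
    (Mono ((CohTop.push (CohCx.incl U)).map ((pullIsoRestr U).hom.app I)))
  exact { exact := (ShortComplex.exact_iff_of_epi_of_isIso_of_mono φ).1 h1 }


lemma isZero_rightDerived_id (n : ℕ) (F : CohTop.Ab X) :
    IsZero (((𝟭 (CohTop.Ab X)).rightDerived (n + 1)).obj F) :=
  FunSES.isZero_rightDerived_succ_of_exact (𝟭 (CohTop.Ab X)) n F

/-- `ℋⁱ⁺¹_Z ≅ j⁻¹ ⋙ Rⁱj_*` for `i ≥ 1`. -/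
noncomputable def HZshSuccIso (k : ℕ) :
    LocCohZ.HZsh U (k + 1 + 1) ≅
      CohTop.pull (CohCx.incl U) ⋙ CohTop.Rpush (CohCx.incl U) (k + 1) :=
  (FunSES.δIso (αZ U) (βZ U) (wZ U) (shortExact_Z U) (k + 1)
      (fun F => isZero_rightDerived_id k F) (fun F => isZero_rightDerived_id (k + 1) F)).symm ≪≫
    (rightDerivedCompNatIso (CohTop.restrFunctor U) (CohTop.push (CohCx.incl U)) (G3 U)
      (Iso.refl _) (k + 1)).symm ≪≫
    Functor.isoWhiskerRight (pullIsoRestr U).symm _


instance : PreservesFiniteLimits (G3 U) := by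
  haveI : PreservesLimits (CohTop.push (CohCx.incl U)) :=
    (adjB U).rightAdjoint_preservesLimits
  haveI : PreservesFiniteLimits (CohTop.push (CohCx.incl U)) := inferInstance
  exact comp_preservesFiniteLimits _ _

/-- `ℋ¹_Z ≅ coker (id ⟶ j_* j⁻¹)`. -/
noncomputable def HZshOneIso :
    LocCohZ.HZsh U 1 ≅ cokernel (adjU U).unit :=
  (FunSES.cokerIso (αZ U) (βZ U) (wZ U) (shortExact_Z U)
      (fun F => isZero_rightDerived_id 0 F)).symm ≪≫
    (cokernel.mapIso (adjU U).unit (βZ U) (Iso.refl _)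
      (Functor.isoWhiskerRight (pullIsoRestr U) (CohTop.push (CohCx.incl U))) (by
        rw [Iso.refl_hom, Category.id_comp]
        exact unit_comp U)).symm

end Groth.Agent.LD.LCZ
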