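import Groth.Agent.Lib.Lead.LCZ.RHZ
import Groth.Agent.Lib.Lead.LCZ.Excise
import Groth.Agent.Lib.Lead.KT.ExtCompare

/-! # Excision for cohomology with supports: `H^i_Z(X, F) ≅ H^i_Z(V, F|_V)`. -/

universe u
open CategoryTheory Limits Opposite Abelian TopologicalSpace Topology

namespace Groth.Agent.LD.LCZ
open Groth.Agent.LD.SC Groth.Agent.LD.EZ Groth.Agent.LD.KT

variable {X : TopCat.{u}} {W V : Opens X} (h : W ≤ V)

/-- the open `W ∩ V` of `V`. -/
abbrev Wr : Opens (TopCat.of V) := (Opens.map (CohCx.incl V)).obj W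

/-- the image in `X` of an open of `V`. -/
abbrev imV (V' : Opens (TopCat.of V)) : Opens X :=
  (isOpenEmbedding_incl V).isOpenMap.functor.obj V'

lemma imV_top_le : imV (⊤ : Opens (TopCat.of V)) ≤ V := by
  rintro _ ⟨y, _, rfl⟩
  exact y.2

lemma le_imV_top : V ≤ imV (⊤ : Opens (TopCat.of V)) := fun x hx => ⟨⟨x, hx⟩, trivial, rfl⟩

include h in
lemma le_imV_Wr : W ≤ imV (Wr (V := V) (W := W)) := fun x hx => ⟨⟨x, h hx⟩, hx, rfl⟩

lemma imV_Wr_le : imV (Wr (V := V) (W := W)) ≤ W := by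
  rintro _ ⟨y, hy, rfl⟩
  exact hy

lemma map_map_eq (F : CohTop.Ab X) {A B : Opens X} (a : A ⟶ B) (b : B ⟶ A)
    (s : F.obj.obj (op B)) : F.obj.map b.op (F.obj.map a.op s) = s := by
  rw [← ConcreteCategory.comp_apply, ← F.obj.map_comp, ← op_comp]
  have : b ≫ a = 𝟙 B := Subsingleton.elim _ _
  rw [this, op_id, F.obj.map_id]
  rfl

lemma map_map (F : CohTop.Ab X) {A B D : Opens X} (a : A ⟶ B) (b : D ⟶ A) (c : D ⟶ B)
    (s : F.obj.obj (op B)) : F.obj.map b.op (F.obj.map a.op s) = F.obj.map c.op s := by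
  rw [← ConcreteCategory.comp_apply, ← F.obj.map_comp, ← op_comp]
  have : b ≫ a = c := Subsingleton.elim _ _
  rw [this]

/-- transport of sections `F(V) → F(j(⊤)) = (F|_V)(⊤)`. -/
noncomputable abbrev toTop (F : CohTop.Ab X) :
    F.obj.obj (op V) ⟶ F.obj.obj (op (imV (⊤ : Opens (TopCat.of V)))) :=
  F.obj.map (homOfLE (imV_top_le (V := V))).op

lemma toTop_injective (F : CohTop.Ab X) : Function.Injective (toTop (V := V) F) := by
  intro s t hst
  have h1 := congrArg (F.obj.map (homOfLE (le_imV_top (V := V))).op) hst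
  rw [map_map_eq, map_map_eq] at h1
  exact h1

lemma toTop_surjective (F : CohTop.Ab X) : Function.Surjective (toTop (V := V) F) := by
  intro s
  exact ⟨F.obj.map (homOfLE (le_imV_top (V := V))).op s, map_map_eq F _ _ s⟩

include h in
lemma res_iff (F : CohTop.Ab X) (s : F.obj.obj (op V)) :
    F.obj.map (homOfLE h).op s = 0 ↔
      (CohTop.restr F V).obj.map (homOfLE (le_top : Wr (V := V) (W := W) ≤ ⊤)).op
        (toTop (V := V) F s) = 0 := by
  change _ ↔ F.obj.map ((isOpenEmbedding_incl V).isOpenMap.functor.map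
    (homOfLE (le_top : Wr (V := V) (W := W) ≤ ⊤))).op
      (F.obj.map (homOfLE (imV_top_le (V := V))).op s) = 0
  rw [map_map F _ _ (homOfLE ((imV_Wr_le (V := V) (W := W)).trans h))]
  constructor
  · intro h0
    rw [← map_map F (homOfLE h) (homOfLE (imV_Wr_le (V := V) (W := W))), h0, map_zero]
  · intro h0
    rw [← map_map F (homOfLE ((imV_Wr_le (V := V) (W := W)).trans h))
      (homOfLE (le_imV_Wr h)) (homOfLE h), h0, map_zero]

/-- `ℤ_V/ℤ_W` computed on the open subspace `V`. -/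
noncomputable abbrev zqV : CohTop.Ab (TopCat.of V) :=
  LocCohZ.zq (le_top : Wr (V := V) (W := W) ≤ ⊤)

include h in
lemma exists_exc (F : CohTop.Ab X) (ψ : LocCohZ.zq h ⟶ F) :
    ∃ φ' : zqV (V := V) (W := W) ⟶ CohTop.restr F V,
      zqEval (le_top : Wr (V := V) (W := W) ≤ ⊤) (CohTop.restr F V) φ' =
        toTop (V := V) F (zqEval h F ψ) :=
  exists_zqEval_eq _ (CohTop.restr F V) _ ((res_iff h F _).1 (zqEval_res h F ψ))

/-- `Hom_X(ℤ_V/ℤ_W, F) → Hom_V(ℤ_V/ℤ_W, F|_V)`. -/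
noncomputable def excFwd (F : CohTop.Ab X) (ψ : LocCohZ.zq h ⟶ F) :
    zqV (V := V) (W := W) ⟶ CohTop.restr F V := (exists_exc h F ψ).choose

lemma zqEval_excFwd (F : CohTop.Ab X) (ψ : LocCohZ.zq h ⟶ F) :
    zqEval (le_top : Wr (V := V) (W := W) ≤ ⊤) (CohTop.restr F V) (excFwd h F ψ) =
      toTop (V := V) F (zqEval h F ψ) := (exists_exc h F ψ).choose_spec

lemma excFwd_bijective (F : CohTop.Ab X) : Function.Bijective (excFwd h F) := by
  constructor
  · intro ψ ψ' hψ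
    have h1 := congrArg (zqEval (le_top : Wr (V := V) (W := W) ≤ ⊤) (CohTop.restr F V)) hψ
    rw [zqEval_excFwd, zqEval_excFwd] at h1
    exact zqEval_injective h F (toTop_injective F h1)
  · intro φ'
    obtain ⟨s, hs⟩ := toTop_surjective (V := V) F
      (zqEval (le_top : Wr (V := V) (W := W) ≤ ⊤) (CohTop.restr F V) φ')
    have hs0 : F.obj.map (homOfLE h).op s = 0 := by
      rw [res_iff h F s, hs]
      exact zqEval_res _ (CohTop.restr F V) φ'
    obtain ⟨ψ, hψ⟩ := exists_zqEval_eq h F s hs0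
    refine ⟨ψ, ?_⟩
    apply zqEval_injective (le_top : Wr (V := V) (W := W) ≤ ⊤) (CohTop.restr F V)
    rw [zqEval_excFwd, hψ, hs]

/-- `Hom_X(ℤ_V/ℤ_W, F) ≃ Hom_V(ℤ_V/ℤ_W, F|_V)`. -/
noncomputable def excEquiv (F : CohTop.Ab X) :
    (LocCohZ.zq h ⟶ F) ≃ (zqV (V := V) (W := W) ⟶ (CohTop.restrFunctor V).obj F) :=
  Equiv.ofBijective (excFwd h F) (excFwd_bijective h F)

lemma excEquiv_comp {F F' : CohTop.Ab X} (ψ : LocCohZ.zq h ⟶ F) (g : F ⟶ F') :
    excEquiv h F' (ψ ≫ g) = excEquiv h F ψ ≫ (CohTop.restrFunctor V).map g := by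
  apply zqEval_injective (le_top : Wr (V := V) (W := W) ≤ ⊤) (CohTop.restr F' V)
  change zqEval _ _ (excFwd h F' (ψ ≫ g)) = zqEval _ _ (excFwd h F ψ ≫ _)
  rw [zqEval_excFwd, zqEval_comp, zqEval_comp, zqEval_excFwd]
  exact (NatTrans.naturality_apply g.hom (homOfLE (imV_top_le (V := V))).op _).symm

/-- `Hom_V(ℤ_V/ℤ_W, (-)|_V) ≅ Hom_X(ℤ_V/ℤ_W, -)`. -/
noncomputable def excHomIso :
    CohTop.restrFunctor V ⋙ preadditiveCoyoneda.obj (op (zqV (V := V) (W := W))) ≅
      preadditiveCoyoneda.obj (op (LocCohZ.zq h)) :=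
  homFIsoOfEquiv (CohTop.restrFunctor V) (excEquiv h) (fun _ _ ψ g => excEquiv_comp h ψ g)

/-- the natural excision isomorphism. -/
noncomputable def excIso (i : ℕ) :
    extFunctorObj (LocCohZ.zq h) i ≅
      CohTop.restrFunctor V ⋙ extFunctorObj (zqV (V := V) (W := W)) i :=
  (coyonedaRightDerivedIso (LocCohZ.zq h) i).symm ≪≫
    rightDerivedIsoOfIso (excHomIso h).symm i ≪≫
    (rightDerivedCompNatIso (CohTop.restrFunctor V)
      (preadditiveCoyoneda.obj (op (zqV (V := V) (W := W)))) _ (Iso.refl _) i).symm ≪≫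
    Functor.isoWhiskerLeft _ (coyonedaRightDerivedIso (zqV (V := V) (W := W)) i)

/-- **Excision.** -/
theorem exists_excision (i : ℕ) :
    ∃ e : ∀ F : CohTop.Ab X,
        LocCohZ.HZ F i h ≃+ LocCohZ.HZc (CohTop.restr F V) i ((Opens.map (CohCx.incl V)).obj W),
      ∀ (F G : CohTop.Ab X) (φ : F ⟶ G) (x : LocCohZ.HZ F i h),
        e G (LocCohZ.map φ i h x) =
          LocCohZ.map ((CohTop.restrFunctor V).map φ) i
            (le_top : (Opens.map (CohCx.incl V)).obj W ≤ ⊤) (e F x) := by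
  refine ⟨fun F => ((excIso h i).app F).addCommGroupIsoToAddEquiv, fun F G φ x => ?_⟩
  exact congrArg (fun t : (extFunctorObj (LocCohZ.zq h) i).obj F ⟶ _ => t x)
    ((excIso h i).hom.naturality φ)

end Groth.Agent.LD.LCZ
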