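import Groth.Agent.Lib.Lead.LCZ.LES

/-! # The top-degree case: local vanishing. -/

universe u
open CategoryTheory Limits Opposite Abelian TopologicalSpace Topology

namespace Groth.Agent.LD.LCZ
open Groth.Agent.LD.SC

variable {X : TopCat.{u}}

/-- a short complex of sheaves which is locally exact on sections is exact. -/
lemma exact_of_local_sections (S : ShortComplex (CohTop.Ab X))
    (h : ∀ (V : Opens X) (y : S.X₂.obj.obj (op V)), S.g.hom.app (op V) y = 0 →
      ∀ x ∈ V, ∃ (V' : Opens X) (hV' : V' ≤ V), x ∈ V' ∧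
        ∃ x₁ : S.X₁.obj.obj (op V'), S.f.hom.app (op V') x₁ = S.X₂.obj.map (homOfLE hV').op y) :
    S.Exact := by
  rw [S.exact_iff_epi_kernel_lift]
  apply (Sheaf.isLocallySurjective_iff_epi' (φ := kernel.lift S.g S.f S.zero)).mp
  apply (TopCat.Presheaf.isLocallySurjective_iff _).mpr
  intro V z x hx
  let y := (kernel.ι S.g).hom.app (op V) z
  have hy : S.g.hom.app (op V) y = 0 := by
    have := congrArg (fun ψ => ψ.hom.app (op V) z) (kernel.condition S.g)
    exact this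
  obtain ⟨V', hV', hxV', x₁, hx₁⟩ := h V y hy x hx
  refine ⟨V', hV', ⟨x₁, ?_⟩, hxV'⟩
  apply CH.app_injective_of_mono (kernel.ι S.g) V'
  have h2 := congrArg (fun ψ => ψ.hom.app (op V') x₁) (kernel.lift_ι S.g S.f S.zero)
  have h3 : (kernel.ι S.g).hom.app (op V') ((kernel.lift S.g S.f S.zero).hom.app (op V') x₁) =
      S.f.hom.app (op V') x₁ := h2
  have h4 := NatTrans.naturality_apply (kernel.ι S.g).hom (homOfLE hV').op z
  change (kernel.ι S.g).hom.app (op V') ((kernel.lift S.g S.f S.zero).hom.app (op V') x₁) =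
    (kernel.ι S.g).hom.app (op V') (((kernel S.g).obj.map (homOfLE hV').op) z)
  rw [h3, hx₁, h4]

section nat

variable {W V W' V' : Opens X} (h : W ≤ V) (h' : W' ≤ V') (hW : W' ≤ W) (hV : V' ≤ V)

lemma π_zqMap :
    cokernel.π (CohCx.freeSheafMap (Opens.grothendieckTopology X) (homOfLE h')) ≫
      LocCohZ.zqMap h h' hW hV =
    ZUmap (Opens.grothendieckTopology X) (homOfLE hV) ≫
      cokernel.π (CohCx.freeSheafMap (Opens.grothendieckTopology X) (homOfLE h)) := by
  unfold LocCohZ.zqMap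
  rw [cokernel.π_desc]

lemma zqEval_zqMap (G : CohTop.Ab X) (φ : LocCohZ.zq h ⟶ G) :
    zqEval h' G (LocCohZ.zqMap h h' hW hV ≫ φ) = G.obj.map (homOfLE hV).op (zqEval h G φ) := by
  unfold zqEval
  rw [← homEquiv_map, ← Category.assoc, π_zqMap, Category.assoc]

lemma toHU_resZ (F : CohTop.Ab X) (i : ℕ) (α : LocCohZ.HZ F i h) :
    LocCohZ.toHU F i h' (LocCohZ.resZ F i h h' hW hV α) =
      Hres (homOfLE hV) (LocCohZ.toHU F i h α) := by
  change (Ext.mk₀ _).comp ((Ext.mk₀ _).comp α (zero_add i)) (zero_add i) =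
    (Ext.mk₀ _).comp ((Ext.mk₀ _).comp α (zero_add i)) (zero_add i)
  rw [Ext.mk₀_comp_mk₀_assoc, Ext.mk₀_comp_mk₀_assoc, π_zqMap]

end nat

set_option quotPrecheck false in
/-- the complex `Γ_Z(I^•)`. -/
local notation "KZ(" U "," R ")" =>
  ((LocCohZ.sectSuppF U).mapHomologicalComplex (ComplexShape.up ℕ)).obj
    (InjectiveResolution.cocomplex R)

/-- if restriction `H^k(V) → H^k(V ∩ U)` is onto for all `V`, then `Γ_Z(I^•)` is exact in
degree `k + 1`. -/
theorem exactAt_succ_of_surjective (U : Opens X) {F : CohTop.Ab X} (R : InjectiveResolution F)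
    (k : ℕ)
    (hsurj : ∀ V : Opens X, Function.Surjective (CohTop.res F k (inf_le_left : V ⊓ U ≤ V))) :
    KZ(U, R).ExactAt (k + 1) := by
  rw [HomologicalComplex.exactAt_iff' _ k (k + 1) (k + 2) (by simp) (by simp)]
  apply exact_of_local_sections
  intro V t ht x hx
  obtain ⟨φ, hφ, hφd⟩ := exists_zq_of_cocycle U R V (k + 1) t ht
  let α : LocCohZ.HZ F (k + 1) (inf_le_left : V ⊓ U ≤ V) := R.extMk φ (k + 2) rfl hφd
  obtain ⟨S, hS, hSz⟩ := exists_sieve_Hres_eq_zero k F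
    (LocCohZ.toHU F (k + 1) (inf_le_left : V ⊓ U ≤ V) α)
  obtain ⟨V', f, hf, hxV'⟩ := hS x hx
  have hV' : V' ≤ V := leOfHom f
  have hW : V' ⊓ U ≤ V ⊓ U := inf_le_inf_right U hV'
  refine ⟨V', hV', hxV', ?_⟩
  let α' := LocCohZ.resZ F (k + 1) (inf_le_left : V ⊓ U ≤ V) (inf_le_left : V' ⊓ U ≤ V') hW hV' α
  have hα'0 : LocCohZ.toHU F (k + 1) (inf_le_left : V' ⊓ U ≤ V') α' = 0 := by
    rw [toHU_resZ]
    have : homOfLE hV' = f := Subsingleton.elim _ _
    rw [this]
    exact hSz f hf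
  obtain ⟨y, hy⟩ := exists_delta_eq (inf_le_left : V' ⊓ U ≤ V') F k α' hα'0
  obtain ⟨z, rfl⟩ := hsurj V' y
  rw [delta_res] at hy
  have hα' : R.extMk (LocCohZ.zqMap (inf_le_left : V ⊓ U ≤ V) (inf_le_left : V' ⊓ U ≤ V') hW hV' ≫ φ)
      (k + 2) rfl (by rw [Category.assoc, hφd, comp_zero]) = 0 := by
    rw [← R.mk₀_comp_extMk φ (k + 2) rfl hφd]
    exact hy.symm
  obtain ⟨g, hg⟩ := (R.extMk_eq_zero_iff _ (k + 2) rfl _ k rfl).1 hα'
  obtain ⟨t', ht'⟩ := exists_sect_of_zq U R V' k g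
  refine ⟨t', ?_⟩
  apply ssι_app_injective U _ V'
  change (ssι U (R.cocomplex.X (k + 1))).hom.app (op V')
      ((KZ(U, R).d k (k + 1)).hom.app (op V') t') =
    (ssι U (R.cocomplex.X (k + 1))).hom.app (op V')
      ((KZ(U, R).X (k + 1)).obj.map (homOfLE hV').op t)
  rw [ssι_d, ht', ← zqEval_comp, hg, zqEval_zqMap, hφ]
  exact (ssι_res U _ (homOfLE hV') t).symm

theorem isZero_HZsh_succ_of_surjective (F : CohTop.Ab X) (U : Opens X) (k : ℕ)
    (hsurj : ∀ V : Opens X, Function.Surjective (CohTop.res F k (inf_le_left : V ⊓ U ≤ V))) :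
    IsZero ((LocCohZ.HZsh U (k + 1)).obj F) := by
  let R := InjectiveResolution.of F
  refine (Iso.isZero_iff (R.isoRightDerivedObj (LocCohZ.sectSuppF U) (k + 1))).2 ?_
  exact (HomologicalComplex.exactAt_iff_isZero_homology _ _).1
    (exactAt_succ_of_surjective U R k hsurj)

lemma subsingleton_HZ_of_res (F : CohTop.Ab X) {W V : Opens X} (h : W ≤ V) (j : ℕ)
    (hinj : Function.Injective (CohTop.res F j h))
    (hsurj : ∀ k, k + 1 = j → Function.Surjective (CohTop.res F k h)) :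
    Subsingleton (LocCohZ.HZ F j h) := by
  suffices hz : ∀ x : LocCohZ.HZ F j h, x = 0 from ⟨fun a b => (hz a).trans (hz b).symm⟩
  intro x
  have hx : LocCohZ.toHU F j h x = 0 := by
    apply hinj
    rw [res_toHU, map_zero]
  cases j with
  | zero =>
    apply toHU_zero_injective h F
    rw [hx, map_zero]
  | succ k =>
    obtain ⟨y, rfl⟩ := exists_delta_eq h F k x hx
    obtain ⟨z, rfl⟩ := hsurj k rfl y
    exact delta_res _ F k z

end Groth.Agent.LD.LCZ
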