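import Groth.Agent.Lib.Lead.LCZ.Unit
import Groth.Agent.Lib.Lead.Cech.TopH0
import Groth.Agent.Lib.Lead.SC.Flasque

/-! # Sections with supports: `Γ_Z F`, its sections, flasqueness. -/

universe u
open CategoryTheory Limits Opposite Abelian TopologicalSpace Topology

namespace Groth.Agent.LD.LCZ
open Groth.Agent.LD.SC

variable {X : TopCat.{u}}

/-- glue two sections agreeing on the intersection. -/
lemma glue2 (F : CohTop.Ab X) {A B : Opens X} (a : F.obj.obj (op A)) (b : F.obj.obj (op B))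
    (h : F.obj.map (homOfLE (inf_le_left : A ⊓ B ≤ A)).op a =
      F.obj.map (homOfLE (inf_le_right : A ⊓ B ≤ B)).op b) :
    ∃ c : F.obj.obj (op (A ⊔ B)), F.obj.map (homOfLE (le_sup_left : A ≤ A ⊔ B)).op c = a ∧
      F.obj.map (homOfLE (le_sup_right : B ≤ A ⊔ B)).op c = b := by
  let Uf : Bool → Opens X := fun t => if t then A else B
  let sf : ∀ t : Bool, F.obj.obj (op (Uf t)) := fun t =>
    match t with
    | true => a
    | false => b
  have hle : ∀ t, Uf t ≤ A ⊔ B := fun t => by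
    cases t
    · exact le_sup_right
    · exact le_sup_left
  have hcov : A ⊔ B ≤ iSup Uf := by
    apply sup_le
    · exact le_iSup Uf true
    · exact le_iSup Uf false
  have hcompat : TopCat.Presheaf.IsCompatible F.obj Uf sf := by
    intro i j
    cases i <;> cases j
    · rfl
    · have e : B ⊓ A ≤ A ⊓ B := by rw [inf_comm]
      change F.obj.map (homOfLE (inf_le_left : B ⊓ A ≤ B)).op b =
        F.obj.map (homOfLE (inf_le_right : B ⊓ A ≤ A)).op a
      rw [← CH.res_res F.obj (homOfLE (inf_le_right : A ⊓ B ≤ B)) (homOfLE e),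
        ← CH.res_res F.obj (homOfLE (inf_le_left : A ⊓ B ≤ A)) (homOfLE e), h]
    · exact h
    · rfl
  obtain ⟨z, hz, -⟩ := TopCat.Sheaf.existsUnique_gluing' F Uf (A ⊔ B)
    (fun t => homOfLE (hle t)) hcov sf hcompat
  exact ⟨z, hz true, hz false⟩

variable (U : Opens X)

/-- the inclusion `Γ_Z F ⟶ F`. -/
noncomputable abbrev ssι (F : CohTop.Ab X) : CohCx.sectSupp U F ⟶ F :=
  kernel.ι ((adjU U).unit.app F)

lemma ssι_app_injective (F : CohTop.Ab X) (V : Opens X) :
    Function.Injective ((ssι U F).hom.app (op V)) :=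
  CH.app_injective_of_mono (ssι U F) V

lemma res_ssι_eq_zero (F : CohTop.Ab X) (V : Opens X) (t : (CohCx.sectSupp U F).obj.obj (op V)) :
    F.obj.map (homOfLE (inf_le_left : V ⊓ U ≤ V)).op ((ssι U F).hom.app (op V) t) = 0 := by
  rw [← unit_app_eq_zero_iff]
  have h := kernel.condition ((adjU U).unit.app F)
  have h2 := congrArg (fun ψ => ψ.hom.app (op V) t) h
  exact h2

lemma exists_ssι_eq (F : CohTop.Ab X) (V : Opens X) (s : F.obj.obj (op V))
    (hs : F.obj.map (homOfLE (inf_le_left : V ⊓ U ≤ V)).op s = 0) :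
    ∃ t : (CohCx.sectSupp U F).obj.obj (op V), (ssι U F).hom.app (op V) t = s := by
  rw [← unit_app_eq_zero_iff] at hs
  let S : ShortComplex (CohTop.Ab X) :=
    ShortComplex.mk (ssι U F) ((adjU U).unit.app F) (kernel.condition _)
  have hS : S.Exact := S.exact_of_f_is_kernel (kernelIsKernel _)
  haveI : Mono S.f := inferInstanceAs (Mono (kernel.ι ((adjU U).unit.app F)))
  have h := hS.map_of_mono_of_preservesKernel
    (sheafToPresheaf (Opens.grothendieckTopology X) AddCommGrpCat.{u} ⋙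
      (evaluation _ _).obj (op V)) inferInstance inferInstance
  rw [ShortComplex.ab_exact_iff] at h
  exact h s hs

/-- naturality of `ssι`. -/
lemma sectSuppF_map_ssι {F G : CohTop.Ab X} (φ : F ⟶ G) :
    (LocCohZ.sectSuppF U).map φ ≫ ssι U G = ssι U F ≫ φ := by
  simp [LocCohZ.sectSuppF]

lemma sectSuppF_map_app {F G : CohTop.Ab X} (φ : F ⟶ G) (V : Opens X)
    (t : (CohCx.sectSupp U F).obj.obj (op V)) :
    (ssι U G).hom.app (op V) (((LocCohZ.sectSuppF U).map φ).hom.app (op V) t) =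
      φ.hom.app (op V) ((ssι U F).hom.app (op V) t) := by
  have h := congrArg (fun ψ => ψ.hom.app (op V) t) (sectSuppF_map_ssι U φ)
  exact h

lemma ssι_res (F : CohTop.Ab X) {V W : Opens X} (i : W ⟶ V)
    (t : (CohCx.sectSupp U F).obj.obj (op V)) :
    (ssι U F).hom.app (op W) ((CohCx.sectSupp U F).obj.map i.op t) =
      F.obj.map i.op ((ssι U F).hom.app (op V) t) :=
  NatTrans.naturality_apply (ssι U F).hom i.op t

/-- `Γ_Z` of a flasque sheaf is flasque. -/
instance isFlasque_sectSupp (F : CohTop.Ab X) [TopCat.Sheaf.IsFlasque F] :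
    TopCat.Sheaf.IsFlasque (CohCx.sectSupp U F) where
  epi {V₁ V₂} i := by
    rw [AddCommGrpCat.epi_iff_surjective]
    intro t
    have hle : V₂.unop ≤ V₁.unop := leOfHom i.unop
    let s := (ssι U F).hom.app (op V₂.unop) t
    have hs : F.obj.map (homOfLE (inf_le_left : V₂.unop ⊓ U ≤ V₂.unop)).op s = 0 :=
      res_ssι_eq_zero U F V₂.unop t
    -- glue `s` with `0` on `V₁ ⊓ U`
    have hagree : F.obj.map (homOfLE (inf_le_left : V₂.unop ⊓ (V₁.unop ⊓ U) ≤ V₂.unop)).op s =
        F.obj.map (homOfLE (inf_le_right : V₂.unop ⊓ (V₁.unop ⊓ U) ≤ V₁.unop ⊓ U)).op 0 := by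
      rw [map_zero]
      have e : V₂.unop ⊓ (V₁.unop ⊓ U) ≤ V₂.unop ⊓ U := inf_le_inf_left _ inf_le_right
      rw [← CH.res_res F.obj (homOfLE (inf_le_left : V₂.unop ⊓ U ≤ V₂.unop)) (homOfLE e), hs,
        map_zero]
    obtain ⟨c, hc1, hc2⟩ := glue2 F s (0 : F.obj.obj (op (V₁.unop ⊓ U))) hagree
    have hle2 : V₂.unop ⊔ (V₁.unop ⊓ U) ≤ V₁.unop := sup_le hle inf_le_left
    haveI : Epi (F.obj.map (homOfLE hle2).op) := inferInstance
    obtain ⟨s₁, hs₁⟩ := (AddCommGrpCat.epi_iff_surjective _).1 this c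
    have hs₁U : F.obj.map (homOfLE (inf_le_left : V₁.unop ⊓ U ≤ V₁.unop)).op s₁ = 0 := by
      rw [← CH.res_res F.obj (homOfLE hle2) (homOfLE (le_sup_right : V₁.unop ⊓ U ≤ _)), hs₁, hc2]
    obtain ⟨t₁, ht₁⟩ := exists_ssι_eq U F V₁.unop s₁ hs₁U
    refine ⟨t₁, ?_⟩
    apply ssι_app_injective U F V₂.unop
    have h1 := ssι_res U F (homOfLE hle) t₁
    have e : i = (homOfLE hle).op := Subsingleton.elim _ _
    rw [e, h1, ht₁, ← CH.res_res F.obj (homOfLE hle2) (homOfLE (le_sup_left : V₂.unop ≤ _)), hs₁, hc1]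

end Groth.Agent.LD.LCZ
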