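import Groth.Agent.Lib.Lead.LCZ.Main

/-! # The long exact sequence of cohomology with supports. -/

universe u
open CategoryTheory Limits Opposite Abelian TopologicalSpace Topology

namespace Groth.Agent.LD.LCZ
open Groth.Agent.LD.SC

variable {X : TopCat.{u}} {W V : Opens X} (h : W ≤ V) (F : CohTop.Ab X)

lemma res_eq (i : ℕ) (z : CohTop.HU F i V) :
    CohTop.res F i h z =
      (Ext.mk₀ (LocCohZ.zqSeq h).f).comp (z : Ext (ZU _ V) F i) (zero_add i) := rfl

lemma toHU_eq (i : ℕ) (x : LocCohZ.HZ F i h) :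
    LocCohZ.toHU F i h x = (Ext.mk₀ (LocCohZ.zqSeq h).g).comp x (zero_add i) := rfl

lemma delta_eq (i : ℕ) (y : CohTop.HU F i W) :
    LocCohZ.delta F i h y =
      (LocCohZ.zqSeq_shortExact h).extClass.comp (y : Ext (ZU _ W) F i) (by omega) := rfl

lemma res_toHU (i : ℕ) (x : LocCohZ.HZ F i h) :
    CohTop.res F i h (LocCohZ.toHU F i h x) = 0 := by
  rw [res_eq, toHU_eq, Ext.mk₀_comp_mk₀_assoc, (LocCohZ.zqSeq h).zero, Ext.mk₀_zero, Ext.zero_comp]
  rfl

lemma delta_res (i : ℕ) (z : CohTop.HU F i V) :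
    LocCohZ.delta F i h (CohTop.res F i h z) = 0 := by
  rw [delta_eq, res_eq]
  exact (LocCohZ.zqSeq_shortExact h).extClass_comp_assoc _

lemma toHU_delta (i : ℕ) (y : CohTop.HU F i W) :
    LocCohZ.toHU F (i + 1) h (LocCohZ.delta F i h y) = 0 := by
  rw [toHU_eq, delta_eq]
  exact (LocCohZ.zqSeq_shortExact h).comp_extClass_assoc _ _

lemma exists_delta_eq (i : ℕ) (x : LocCohZ.HZ F (i + 1) h)
    (hx : LocCohZ.toHU F (i + 1) h x = 0) : ∃ y : CohTop.HU F i W, LocCohZ.delta F i h y = x :=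
  Ext.contravariant_sequence_exact₃ (LocCohZ.zqSeq_shortExact h) F x hx (by omega)

lemma exists_toHU_eq (i : ℕ) (y : CohTop.HU F i V) (hy : CohTop.res F i h y = 0) :
    ∃ x : LocCohZ.HZ F i h, LocCohZ.toHU F i h x = y :=
  Ext.contravariant_sequence_exact₂ (LocCohZ.zqSeq_shortExact h) F y hy

lemma exists_res_eq (i : ℕ) (y : CohTop.HU F i W) (hy : LocCohZ.delta F i h y = 0) :
    ∃ z : CohTop.HU F i V, CohTop.res F i h z = y :=
  Ext.contravariant_sequence_exact₁ (LocCohZ.zqSeq_shortExact h) F y (by omega) hy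

lemma toHU_zero_injective : Function.Injective (LocCohZ.toHU F 0 h) := by
  haveI : Epi (LocCohZ.zqSeq h).g := (LocCohZ.zqSeq_shortExact h).epi_g
  exact Ext.precomp_mk₀_injective_of_epi F (LocCohZ.zqSeq h).g

end Groth.Agent.LD.LCZ
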