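import Groth.Agent.Lib.Lead.LCZ.Main
import Groth.Agent.Lib.Lead.EZ.CoyonedaExt
import Groth.Agent.Lib.Lead.EZ.DerivedIso

/-! # `R^q Γ_Z(X, -) ≅ Ext^q(ℤ_X/ℤ_U, -)` on a topological space. -/

universe v u
open CategoryTheory Limits Opposite Abelian TopologicalSpace Topology

namespace Groth.Agent.LD.LCZ
open Groth.Agent.LD.SC Groth.Agent.LD.EZ

section General

variable {A : Type*} [Category.{v} A] [Preadditive A]

/-- an additive functor to abelian groups naturally in bijection with `Hom(P, -)` is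
isomorphic to it. -/
noncomputable def coyonedaIsoOfEquiv (G : A ⥤ AddCommGrpCat.{v}) [G.Additive] (P : A)
    (e : ∀ M : A, (P ⟶ M) ≃ G.obj M)
    (he : ∀ (M M' : A) (ψ : P ⟶ M) (g : M ⟶ M'), e M' (ψ ≫ g) = G.map g (e M ψ)) :
    preadditiveCoyoneda.obj (op P) ≅ G :=
  have hadd : ∀ (M : A) (f g : P ⟶ M), e M (f + g) = e M f + e M g := fun M f g => by
    have h1 : ∀ f : P ⟶ M, e M f = G.map f (e P (𝟙 P)) := fun f => by
      rw [← he, Category.id_comp]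
    rw [h1 (f + g), h1 f, h1 g, G.map_add]
    rfl
  NatIso.ofComponents (fun M => AddEquiv.toAddCommGrpIso
    { (e M) with map_add' := hadd M })
    (fun {M M'} g => by
      ext ψ
      exact he M M' ψ g)

end General

variable {X : TopCat.{u}} (U : Opens X)

lemma res_top_iff (F : CohTop.Ab X) (s : F.obj.obj (op ⊤)) :
    F.obj.map (homOfLE (inf_le_left : (⊤ : Opens X) ⊓ U ≤ ⊤)).op s = 0 ↔
      F.obj.map (homOfLE (le_top : U ≤ ⊤)).op s = 0 := by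
  constructor
  · intro h
    have h1 : (homOfLE (le_top : U ≤ ⊤)) =
        homOfLE (le_inf le_top le_rfl : U ≤ (⊤ : Opens X) ⊓ U) ≫ homOfLE inf_le_left := rfl
    rw [h1, op_comp, Functor.map_comp, ConcreteCategory.comp_apply, h, map_zero]
  · intro h
    have h1 : (homOfLE (inf_le_left : (⊤ : Opens X) ⊓ U ≤ ⊤)) =
        homOfLE (inf_le_right : (⊤ : Opens X) ⊓ U ≤ U) ≫ homOfLE le_top := rfl
    rw [h1, op_comp, Functor.map_comp, ConcreteCategory.comp_apply, h, map_zero]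

lemma exists_fwd (F : CohTop.Ab X) (ψ : ToposFin.quotZ (LocCohZ.openSh U) ⟶ F) :
    ∃ t : (CohCx.sectSupp U F).obj.obj (op ⊤),
      (ssι U F).hom.app (op ⊤) t =
        zqEval (le_top : U ≤ ⊤) F ((LocCohZ.zqIsoQuotZ U).hom ≫ ψ) :=
  exists_ssι_eq U F ⊤ _ ((res_top_iff U F _).2 (zqEval_res _ F _))

/-- `Hom(ℤ_X/ℤ_U, F) → Γ_Z(X, F)`. -/
noncomputable def rhzFwd (F : CohTop.Ab X) (ψ : ToposFin.quotZ (LocCohZ.openSh U) ⟶ F) :
    (CohCx.sectSupp U F).obj.obj (op ⊤) := (exists_fwd U F ψ).choose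

lemma ssι_rhzFwd (F : CohTop.Ab X) (ψ : ToposFin.quotZ (LocCohZ.openSh U) ⟶ F) :
    (ssι U F).hom.app (op ⊤) (rhzFwd U F ψ) =
      zqEval (le_top : U ≤ ⊤) F ((LocCohZ.zqIsoQuotZ U).hom ≫ ψ) :=
  (exists_fwd U F ψ).choose_spec

lemma rhzFwd_bijective (F : CohTop.Ab X) : Function.Bijective (rhzFwd U F) := by
  constructor
  · intro ψ ψ' h
    have h1 := congrArg ((ssι U F).hom.app (op ⊤)) h
    rw [ssι_rhzFwd, ssι_rhzFwd] at h1
    exact (cancel_epi _).1 (zqEval_injective _ F h1)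
  · intro t
    obtain ⟨φ, hφ⟩ := exists_zqEval_eq (le_top : U ≤ ⊤) F ((ssι U F).hom.app (op ⊤) t)
      ((res_top_iff U F _).1 (res_ssι_eq_zero U F ⊤ t))
    refine ⟨(LocCohZ.zqIsoQuotZ U).inv ≫ φ, ?_⟩
    apply ssι_app_injective U F ⊤
    rw [ssι_rhzFwd, Iso.hom_inv_id_assoc, hφ]

/-- `Hom(ℤ_X/ℤ_U, F) ≃ Γ_Z(X, F)`. -/
noncomputable def rhzEquiv (F : CohTop.Ab X) :
    (ToposFin.quotZ (LocCohZ.openSh U) ⟶ F) ≃ (LocCohZ.gammaZF U).obj F :=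
  Equiv.ofBijective (rhzFwd U F) (rhzFwd_bijective U F)

lemma rhzEquiv_comp {F F' : CohTop.Ab X} (ψ : ToposFin.quotZ (LocCohZ.openSh U) ⟶ F)
    (g : F ⟶ F') :
    rhzEquiv U F' (ψ ≫ g) = (LocCohZ.gammaZF U).map g (rhzEquiv U F ψ) := by
  apply ssι_app_injective U F' ⊤
  change (ssι U F').hom.app (op ⊤) (rhzFwd U F' (ψ ≫ g)) =
    (ssι U F').hom.app (op ⊤) (((LocCohZ.sectSuppF U).map g).hom.app (op ⊤) (rhzFwd U F ψ))
  rw [ssι_rhzFwd, sectSuppF_map_app, ssι_rhzFwd, ← zqEval_comp, Category.assoc]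

/-- `Γ_Z(X, -) ≅ Hom(ℤ_X/ℤ_U, -)`. -/
noncomputable def gammaZFIso :
    preadditiveCoyoneda.obj (op (ToposFin.quotZ (LocCohZ.openSh U))) ≅ LocCohZ.gammaZF U :=
  coyonedaIsoOfEquiv (LocCohZ.gammaZF U) _ (rhzEquiv U) (fun _ _ ψ g => rhzEquiv_comp U ψ g)

/-- **`R^q Γ_Z(X, -) ≅ Ext^q(ℤ_X/ℤ_U, -)`.** -/
theorem nonempty_RHZ_iso (q : ℕ) :
    Nonempty (LocCohZ.RHZ U q ≅ ToposFin.HZFunctor (LocCohZ.openSh U) q) :=
  ⟨rightDerivedIsoOfIso (gammaZFIso U).symm q ≪≫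
    coyonedaRightDerivedIso (ToposFin.quotZ (LocCohZ.openSh U)) q⟩

end Groth.Agent.LD.LCZ
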