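import Mathlib.CategoryTheory.Abelian.Refinements
import Mathlib.Algebra.Homology.ShortComplex.ShortExact

/-! # Third isomorphism theorem in an abelian category: `0 → B/A → D/A → D/B → 0`. -/

universe v u
open CategoryTheory Limits

namespace Groth.Agent.LD.LCZ

variable {C : Type u} [Category.{v} C] [Abelian C]

theorem thirdIso_shortExact {A B D : C} (a : A ⟶ B) (b : B ⟶ D) (c : A ⟶ D) (hc : a ≫ b = c)
    [Mono a] [Mono b]
    (f : cokernel a ⟶ cokernel c) (g : cokernel c ⟶ cokernel b)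
    (hf : cokernel.π a ≫ f = b ≫ cokernel.π c)
    (hg : cokernel.π c ≫ g = cokernel.π b) :
    ∃ w : f ≫ g = 0, (ShortComplex.mk f g w).ShortExact := by
  subst hc
  have w : f ≫ g = 0 := by
    apply (cancel_epi (cokernel.π a)).1
    rw [reassoc_of% hf, hg, cokernel.condition, comp_zero]
  have hb : (ShortComplex.mk b (cokernel.π b) (cokernel.condition b)).Exact :=
    ShortComplex.exact_of_g_is_cokernel _ (cokernelIsCokernel _)
  have hab : (ShortComplex.mk (a ≫ b) (cokernel.π (a ≫ b)) (cokernel.condition _)).Exact :=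
    ShortComplex.exact_of_g_is_cokernel _ (cokernelIsCokernel _)
  refine ⟨w, ?_⟩
  haveI : Epi g := by
    haveI : Epi (cokernel.π (a ≫ b) ≫ g) := by rw [hg]; infer_instance
    exact epi_of_epi (cokernel.π (a ≫ b)) g
  haveI : Mono f := by
    rw [Preadditive.mono_iff_cancel_zero]
    intro Z x hx
    obtain ⟨Z', π, hπ, β, hβ⟩ := surjective_up_to_refinements_of_epi (cokernel.π a) x
    have h1 : (β ≫ b) ≫ cokernel.π (a ≫ b) = 0 := by
      rw [Category.assoc, ← hf, ← reassoc_of% hβ, hx, comp_zero]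
    obtain ⟨Z'', π', hπ', α, hα⟩ := hab.exact_up_to_refinements (β ≫ b) h1
    dsimp at α hα
    have h2 : π' ≫ β = α ≫ a := by
      apply (cancel_mono b).1
      simpa using hα
    apply (cancel_epi π).1
    apply (cancel_epi π').1
    rw [hβ, reassoc_of% h2, cokernel.condition, comp_zero, comp_zero, comp_zero]
  refine ShortComplex.ShortExact.mk ?_
  rw [ShortComplex.exact_iff_exact_up_to_refinements]
  intro Z x₂ hx₂
  dsimp at x₂ hx₂
  obtain ⟨Z', π, hπ, γ, hγ⟩ := surjective_up_to_refinements_of_epi (cokernel.π (a ≫ b)) x₂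
  have h1 : γ ≫ cokernel.π b = 0 := by
    rw [← hg, ← reassoc_of% hγ, hx₂, comp_zero]
  obtain ⟨Z'', π', hπ', β, hβ⟩ := hb.exact_up_to_refinements γ h1
  dsimp at β hβ
  refine ⟨Z'', π' ≫ π, inferInstance, β ≫ cokernel.π a, ?_⟩
  dsimp
  rw [Category.assoc, hγ, reassoc_of% hβ, Category.assoc, hf]

end Groth.Agent.LD.LCZ
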