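import Groth.Agent.Lib.Lead.SC.RestrictTop
import Groth.Agent.Lib.Lead.SC.SieveExt
import Groth.Agent.Lib.Lead.SC.RPushComp
import Groth.Prelude.Def_LocCohZ

/-! # Sections of `CohCx.sectSupp U F`: the kernel of the unit `F ⟶ j_* j⁻¹ F`. -/

universe u
open CategoryTheory Limits Opposite Abelian TopologicalSpace Topology

namespace Groth.Agent.LD.LCZ
open Groth.Agent.LD.SC

variable {X : TopCat.{u}} (U : Opens X)

instance additive_push_incl' : (CohTop.push (CohCx.incl U)).Additive where

noncomputable abbrev adjU : CohTop.pull (CohCx.incl U) ⊣ CohTop.push (CohCx.incl U) :=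
  TopCat.Sheaf.pullbackPushforwardAdjunction AddCommGrpCat.{u} (CohCx.incl U)

instance additive_pull_incl : (CohTop.pull (CohCx.incl U)).Additive :=
  (adjU U).left_adjoint_additive

lemma isOpenEmbedding_incl : IsOpenEmbedding (CohCx.incl U) := U.isOpenEmbedding

/-- `φ ≫ η = 0` iff `j⁻¹ φ = 0`. -/
lemma comp_unit_eq_zero_iff {G F : CohTop.Ab X} (φ : G ⟶ F) :
    φ ≫ (adjU U).unit.app F = 0 ↔ (CohTop.pull (CohCx.incl U)).map φ = 0 := by
  have h : (adjU U).homEquiv G _ ((CohTop.pull (CohCx.incl U)).map φ) =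
      φ ≫ (adjU U).unit.app F := by
    rw [Adjunction.homEquiv_unit]
    exact ((adjU U).unit.naturality φ).symm
  constructor
  · intro h0
    apply ((adjU U).homEquiv G _).injective
    rw [h, h0, Adjunction.homEquiv_unit, Functor.map_zero, comp_zero]
  · intro h0
    rw [← h, h0, Adjunction.homEquiv_unit, Functor.map_zero, comp_zero]

/-- `j⁻¹ φ = 0` iff `φ` vanishes on all opens contained in `U`. -/
lemma pull_map_eq_zero_iff {G F : CohTop.Ab X} (φ : G ⟶ F) :
    (CohTop.pull (CohCx.incl U)).map φ = 0 ↔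
      ∀ W : Opens X, W ≤ U → φ.hom.app (op W) = 0 := by
  have hj := isOpenEmbedding_incl U
  let sp : CohTop.Ab X ⥤ CohTop.Ab (TopCat.of U) := hj.sheafPullback AddCommGrpCat.{u}
  let e : CohTop.pull (CohCx.incl U) ≅ sp := hj.sheafPullbackIso AddCommGrpCat.{u}
  have h1 : (CohTop.pull (CohCx.incl U)).map φ = 0 ↔ sp.map φ = 0 := by
    constructor
    · intro h0
      have := e.hom.naturality φ
      rw [h0, zero_comp] at this
      rw [← cancel_epi (e.hom.app G), ← this, comp_zero]
    · intro h0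
      have := e.hom.naturality φ
      rw [h0, comp_zero] at this
      rw [← cancel_mono (e.hom.app F), this, zero_comp]
  rw [h1]
  constructor
  · intro h0 W hW
    have hW' : hj.isOpenMap.functor.obj ((Opens.map (CohCx.incl U)).obj W) = W := by
      ext x
      constructor
      · rintro ⟨y, hy, rfl⟩
        exact hy
      · intro hx
        exact ⟨⟨x, hW hx⟩, hx, rfl⟩
    have h2 := congrArg (fun ψ => ψ.hom.app (op ((Opens.map (CohCx.incl U)).obj W))) h0
    change φ.hom.app (op (hj.isOpenMap.functor.obj ((Opens.map (CohCx.incl U)).obj W))) = 0 at h2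
    rw [hW'] at h2
    exact h2
  · intro h0
    apply Sheaf.hom_ext
    ext W : 2
    change φ.hom.app (op (hj.isOpenMap.functor.obj W.unop)) = 0
    apply h0
    rintro _ ⟨y, _, rfl⟩
    exact y.2

/-- restricting `ℤ_{V ⊓ U} ⟶ ℤ_V` to `U` gives an epimorphism. -/
lemma epi_pull_ZUmap (V : Opens X) :
    Epi ((CohTop.pull (CohCx.incl U)).map
      (ZUmap (Opens.grothendieckTopology X) (homOfLE (inf_le_left : V ⊓ U ≤ V)))) := by
  constructor
  intro G a b hab
  apply ((adjU U).homEquiv _ _).injective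
  have h1 := congrArg ((adjU U).homEquiv _ _) hab
  rw [Adjunction.homEquiv_naturality_left, Adjunction.homEquiv_naturality_left] at h1
  apply (homEquiv V _).injective
  have h2 := congrArg (homEquiv (V ⊓ U) _) h1
  rw [homEquiv_map, homEquiv_map] at h2
  have hle : (Opens.map (CohCx.incl U)).obj V ≤ (Opens.map (CohCx.incl U)).obj (V ⊓ U) := by
    intro x hx
    exact ⟨hx, x.2⟩
  have h3 := congrArg (G.obj.map (homOfLE hle).op) h2
  have key : ∀ t : ((CohTop.push (CohCx.incl U)).obj G).obj.obj (op V),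
      G.obj.map (homOfLE hle).op (((CohTop.push (CohCx.incl U)).obj G).obj.map
        (homOfLE (inf_le_left : V ⊓ U ≤ V)).op t) = t := by
    intro t
    change (G.obj.map _ ≫ G.obj.map _) t = t
    rw [← G.obj.map_comp]
    have : ((Opens.map (CohCx.incl U)).op.map (homOfLE (inf_le_left : V ⊓ U ≤ V)).op ≫
        (homOfLE hle).op) = 𝟙 _ := Subsingleton.elim _ _
    rw [this, G.obj.map_id]
    rfl
  rw [key, key] at h3
  exact h3

/-- **sections of the kernel of the unit**: `η(s) = 0` iff `s` vanishes on `V ⊓ U`. -/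
theorem unit_app_eq_zero_iff (F : CohTop.Ab X) (V : Opens X) (s : F.obj.obj (op V)) :
    ((adjU U).unit.app F).hom.app (op V) s = 0 ↔
      F.obj.map (homOfLE (inf_le_left : V ⊓ U ≤ V)).op s = 0 := by
  let φ : ZU (Opens.grothendieckTopology X) V ⟶ F := (homEquiv V F).symm s
  have hφ : homEquiv V F φ = s := Equiv.apply_symm_apply _ _
  have h1 : ((adjU U).unit.app F).hom.app (op V) s = homEquiv V _ (φ ≫ (adjU U).unit.app F) := by
    rw [homEquiv_comp, hφ]
  have h2 : F.obj.map (homOfLE (inf_le_left : V ⊓ U ≤ V)).op s =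
      homEquiv (V ⊓ U) F (ZUmap _ (homOfLE (inf_le_left : V ⊓ U ≤ V)) ≫ φ) := by
    rw [homEquiv_map, hφ]
  have hz : ∀ (W : Opens X) (G : CohTop.Ab X) (ψ : ZU (Opens.grothendieckTopology X) W ⟶ G),
      homEquiv W G ψ = 0 ↔ ψ = 0 := by
    intro W G ψ
    exact (homAddEquiv W G).map_eq_zero_iff
  rw [h1, h2, hz, hz, comp_unit_eq_zero_iff]
  constructor
  · intro h0
    have h3 := (pull_map_eq_zero_iff U φ).1 h0 (V ⊓ U) inf_le_right
    apply (homEquiv (V ⊓ U) F).injective
    rw [homEquiv_apply]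
    change φ.hom.app (op (V ⊓ U)) _ = _
    rw [h3]
    exact ((hz _ _ _).2 rfl).symm
  · intro h0
    haveI := epi_pull_ZUmap U V
    rw [← cancel_epi ((CohTop.pull (CohCx.incl U)).map
      (ZUmap (Opens.grothendieckTopology X) (homOfLE (inf_le_left : V ⊓ U ≤ V)))),
      ← Functor.map_comp, h0, Functor.map_zero, comp_zero]

end Groth.Agent.LD.LCZ
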